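import Groth.Agent.KoszulCech.StableH
import Groth.Agent.KoszulCech.Sys
import Groth.Agent.KoszulCech.Basics
import Groth.Prelude.Def_LCI2

/-!
# Acyclicity of the Koszul complex passes to the stable Koszul complex

Everything happens degree by degree: if the iterated cone of the `f`'s on `K` is exact in degree `k`,
so is the iterated cone of the localisation maps.
-/

set_option linter.style.haveILetI false
set_option backward.isDefEq.respectTransparency false

universe u

open CategoryTheory CochainComplex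

noncomputable section

namespace Groth.Agent.KosStableLib

open Groth.Agent.KoszulCech

variable {A : Type u} [CommRing A]

/-- Exactness in degree `k`, by elements. -/
def Ex (K : CochainComplex (ModuleCat.{u} A) ℤ) (k : ℤ) : Prop :=
  ∀ x : K.X k, K.d k (k + 1) x = 0 → ∃ w : K.X (k - 1), K.d (k - 1) k w = x

theorem ex_iff (K : CochainComplex (ModuleCat.{u} A) ℤ) (k : ℤ) :
    Ex K k ↔ Limits.IsZero (K.homology k) :=
  (isZero_homology_iff K (show k - 1 + 1 = k by omega) rfl).symm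

theorem ex_iff_of_bijective {K L : CochainComplex (ModuleCat.{u} A) ℤ} (φ : K ⟶ L)
    (h : ∀ k, Function.Bijective (φ.f k)) (k : ℤ) : Ex K k ↔ Ex L k := by
  rw [ex_iff, ex_iff]
  have e : K.homology k ≅ L.homology k := (LinearEquiv.ofBijective _
    ((hBij_of_bijective φ h).bijective_homologyMap k)).toModuleIso
  exact ⟨fun hz => hz.of_iso e.symm, fun hz => hz.of_iso e⟩

section Square

variable {K L K' L' : CochainComplex (ModuleCat.{u} A) ℤ} (φ : K ⟶ L) (ψ : K' ⟶ L') (p : K ⟶ K')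
  (q : L ⟶ L') (comm : φ ≫ q = p ≫ ψ)

abbrev sq : mappingCone φ ⟶ mappingCone ψ := mappingCone.map φ ψ p q comm

theorem bijective_map_f (hp : ∀ k, Function.Bijective (p.f k)) (hq : ∀ k, Function.Bijective (q.f k))
    (k : ℤ) : Function.Bijective ((sq φ ψ p q comm).f k) := by
  constructor
  · intro x y h
    refine cone_ext φ rfl ((hp (k + 1)).1 ?_) ((hq k).1 ?_)
    · rw [← cfst_map φ ψ p q comm rfl x, ← cfst_map φ ψ p q comm rfl y]
      exact congrArg _ h
    · rw [← csnd_map φ ψ p q comm x, ← csnd_map φ ψ p q comm y]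
      exact congrArg _ h
  · intro z
    obtain ⟨a, ha⟩ := (hp (k + 1)).2 (cfst ψ k _ rfl z)
    obtain ⟨b, hb⟩ := (hq k).2 (csnd ψ k z)
    refine ⟨cmk φ k _ rfl a b, cone_ext ψ rfl ?_ ?_⟩
    · rw [cfst_map, cfst_cmk]; exact ha
    · rw [csnd_map, csnd_cmk]; exact hb

/-- Exchanging the two cone directions of a square. -/
def swapMap (i : ℤ) :
    (mappingCone (sq φ ψ p q comm)).X i →ₗ[A] (mappingCone (sq p q φ ψ comm.symm)).X i where
  toFun x := cmk (sq p q φ ψ comm.symm) i (i + 1) rfl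
    (cmk p (i + 1) (i + 1 + 1) rfl
      (-(cfst φ (i + 1) (i + 1 + 1) rfl (cfst (sq φ ψ p q comm) i (i + 1) rfl x)))
      (cfst ψ i (i + 1) rfl (csnd (sq φ ψ p q comm) i x)))
    (cmk q i (i + 1) rfl (csnd φ (i + 1) (cfst (sq φ ψ p q comm) i (i + 1) rfl x))
      (csnd ψ i (csnd (sq φ ψ p q comm) i x)))
  map_add' x y := by
    refine cone_ext _ rfl (cone_ext _ rfl ?_ ?_) (cone_ext _ rfl ?_ ?_) <;>
      simp only [map_add, cfst_cmk, csnd_cmk, neg_add]
  map_smul' r x := by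
    refine cone_ext _ rfl (cone_ext _ rfl ?_ ?_) (cone_ext _ rfl ?_ ?_) <;>
      simp only [map_smul, cfst_cmk, csnd_cmk, RingHom.id_apply, smul_neg]

theorem swapMap_apply (i : ℤ) (x : (mappingCone (sq φ ψ p q comm)).X i) :
    swapMap φ ψ p q comm i x = cmk (sq p q φ ψ comm.symm) i (i + 1) rfl
      (cmk p (i + 1) (i + 1 + 1) rfl
        (-(cfst φ (i + 1) (i + 1 + 1) rfl (cfst (sq φ ψ p q comm) i (i + 1) rfl x)))
        (cfst ψ i (i + 1) rfl (csnd (sq φ ψ p q comm) i x)))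
      (cmk q i (i + 1) rfl (csnd φ (i + 1) (cfst (sq φ ψ p q comm) i (i + 1) rfl x))
        (csnd ψ i (csnd (sq φ ψ p q comm) i x))) := rfl

theorem swapMap_swapMap (i : ℤ) (x : (mappingCone (sq φ ψ p q comm)).X i) :
    swapMap p q φ ψ comm.symm i (swapMap φ ψ p q comm i x) = x := by
  refine cone_ext _ rfl (cone_ext _ rfl ?_ ?_) (cone_ext _ rfl ?_ ?_) <;>
    simp only [swapMap_apply, cfst_cmk, csnd_cmk, neg_neg]

/-- The exchange as a chain map. -/
def swap : mappingCone (sq φ ψ p q comm) ⟶ mappingCone (sq p q φ ψ comm.symm) where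
  f i := ModuleCat.ofHom (swapMap φ ψ p q comm i)
  comm' i j hij := by
    change i + 1 = j at hij
    subst hij
    ext x
    change (mappingCone (sq p q φ ψ comm.symm)).d i (i + 1) (swapMap φ ψ p q comm i x) =
      swapMap φ ψ p q comm (i + 1) ((mappingCone (sq φ ψ p q comm)).d i (i + 1) x)
    simp only [swapMap_apply]
    refine cone_ext _ rfl (cone_ext _ rfl ?_ ?_) (cone_ext _ rfl ?_ ?_)
    · simp only [cfst_d _ rfl rfl, csnd_d _ rfl, cfst_cmk, csnd_cmk, map_neg, map_add, neg_neg,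
        cfst_map, csnd_map]
    · simp only [cfst_d _ rfl rfl, csnd_d _ rfl, cfst_cmk, csnd_cmk, map_neg, map_add, neg_neg,
        cfst_map, csnd_map]
      abel
    · simp only [cfst_d _ rfl rfl, csnd_d _ rfl, cfst_cmk, csnd_cmk, map_neg, map_add, neg_neg,
        cfst_map, csnd_map]
      abel
    · simp only [cfst_d _ rfl rfl, csnd_d _ rfl, cfst_cmk, csnd_cmk, map_neg, map_add, neg_neg,
        cfst_map, csnd_map]
      abel

theorem bijective_swap (i : ℤ) : Function.Bijective ((swap φ ψ p q comm).f i) :=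
  Function.bijective_iff_has_inverse.2
    ⟨swapMap p q φ ψ comm.symm i, swapMap_swapMap φ ψ p q comm i,
      swapMap_swapMap p q φ ψ comm.symm i⟩

end Square

/-- Multiplication by `f` on a cone. -/
theorem smul_id_cone {K L : CochainComplex (ModuleCat.{u} A) ℤ} (φ : K ⟶ L) (f : A) :
    f • 𝟙 (mappingCone φ) = sq φ φ (f • 𝟙 K) (f • 𝟙 L) (by simp) := by
  ext k x
  refine cone_ext φ rfl ?_ ?_
  · rw [cfst_map, smulId_f_apply, smulId_f_apply, map_smul]
  · rw [csnd_map, smulId_f_apply, smulId_f_apply, map_smul]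

theorem bijective_comp {K L P : CochainComplex (ModuleCat.{u} A) ℤ} {s : K ⟶ L} {m : L ⟶ P}
    (hs : ∀ k, Function.Bijective (s.f k)) (hm : ∀ k, Function.Bijective (m.f k)) (k : ℤ) :
    Function.Bijective ((s ≫ m).f k) :=
  by
  rw [HomologicalComplex.comp_f]
  exact ((hm k).comp (hs k) : Function.Bijective fun x => m.f k (s.f k x))

theorem sq_comm (f g : A) (K : CochainComplex (ModuleCat.{u} A) ℤ) :
    (f • 𝟙 K) ≫ (g • 𝟙 K) = (g • 𝟙 K) ≫ (f • 𝟙 K) := by
  simp [smul_smul, mul_comm]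

theorem exists_swap_smul {K L : CochainComplex (ModuleCat.{u} A) ℤ} (φ : K ⟶ L) (f : A) :
    ∃ e : mappingCone (f • 𝟙 (mappingCone φ)) ⟶
        mappingCone (sq (f • 𝟙 K) (f • 𝟙 L) φ φ (by simp)),
      ∀ k, Function.Bijective (e.f k) := by
  rw [smul_id_cone φ f]
  exact ⟨swap φ φ (f • 𝟙 K) (f • 𝟙 L) _, bijective_swap φ φ (f • 𝟙 K) (f • 𝟙 L) _⟩

/-- Iterated cones of multiplications. -/
def kz : List A → CochainComplex (ModuleCat.{u} A) ℤ → CochainComplex (ModuleCat.{u} A) ℤ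
  | [], K => K
  | f :: l, K => mappingCone (f • 𝟙 (kz l K))

theorem exists_kz_cone (f : A) : ∀ (l : List A) (K : CochainComplex (ModuleCat.{u} A) ℤ),
    ∃ e : mappingCone (f • 𝟙 (kz l K)) ⟶ kz l (mappingCone (f • 𝟙 K)),
      ∀ k, Function.Bijective (e.f k)
  | [], K => ⟨𝟙 _, fun _ => Function.bijective_id⟩
  | g :: l, K => by
    obtain ⟨e, he⟩ := exists_kz_cone f l K
    have hc := sq_comm f g (kz l K)
    obtain ⟨s, hs⟩ := exists_swap_smul (g • 𝟙 (kz l K)) f
    have hm : sq (f • 𝟙 (kz l K)) (f • 𝟙 (kz l K)) (g • 𝟙 (kz l K)) (g • 𝟙 (kz l K)) hc ≫ e =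
        e ≫ (g • 𝟙 (kz l (mappingCone (f • 𝟙 K)))) := by
      rw [show sq (f • 𝟙 (kz l K)) (f • 𝟙 (kz l K)) (g • 𝟙 (kz l K)) (g • 𝟙 (kz l K)) hc =
        g • 𝟙 (mappingCone (f • 𝟙 (kz l K))) from (smul_id_cone (f • 𝟙 (kz l K)) g).symm]
      simp only [Linear.smul_comp, Linear.comp_smul, Category.id_comp, Category.comp_id]
    exact ⟨s ≫ sq _ _ e e hm, bijective_comp hs (bijective_map_f _ _ e e hm he he)⟩

/-- Iterated cones of localisation maps. -/
inductive Stab : List A → CochainComplex (ModuleCat.{u} A) ℤ → CochainComplex (ModuleCat.{u} A) ℤ → Prop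
  | nil (K) : Stab [] K K
  | cons {g : A} {l : List A} {K S L : CochainComplex (ModuleCat.{u} A) ℤ} (φ : S ⟶ L) (hφ : ∀ k, Loc g (φ.f k)) (h : Stab l K S) :
      Stab (g :: l) K (mappingCone φ)

theorem loc_comp_bij {g : A} {M N P : ModuleCat.{u} A} {e : M ⟶ N} {φ : N ⟶ P}
    (he : Function.Bijective e) (hφ : Loc g φ) : Loc g (e ≫ φ) where
  bij := hφ.bij
  extend y := by
    obtain ⟨j, x, hx⟩ := hφ.extend y
    obtain ⟨x', rfl⟩ := he.2 x
    exact ⟨j, x', hx⟩
  kill x hx := by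
    obtain ⟨j, hj⟩ := hφ.kill (e x) hx
    exact ⟨j, he.1 (by rw [map_smul, hj, map_zero])⟩

theorem Stab.exists_cone {l : List A} {K S : CochainComplex (ModuleCat.{u} A) ℤ} (h : Stab l K S)
    (f : A) : ∃ (S' : CochainComplex (ModuleCat.{u} A) ℤ) (e : mappingCone (f • 𝟙 S) ⟶ S'),
      (∀ k, Function.Bijective (e.f k)) ∧ Stab l (mappingCone (f • 𝟙 K)) S' := by
  induction h with
  | nil K => exact ⟨_, 𝟙 _, fun _ => Function.bijective_id, Stab.nil _⟩
  | @cons g l K S L φ hφ h ih =>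
    obtain ⟨S₁, e, he, hS₁⟩ := ih
    obtain ⟨s, hs⟩ := exists_swap_smul φ f
    haveI : ∀ k, IsIso (e.f k) := fun k => (ConcreteCategory.isIso_iff_bijective _).mpr (he k)
    haveI := HomologicalComplex.Hom.isIso_of_components e
    let ψ := inv e ≫ sq (f • 𝟙 S) (f • 𝟙 L) φ φ (by simp)
    have hinv : ∀ k, Function.Bijective ((inv e).f k) := fun k =>
      (ConcreteCategory.isIso_iff_bijective _).mp
        (inferInstanceAs (IsIso ((HomologicalComplex.eval _ _ k).map (inv e))))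
    have hψ : ∀ k, Loc g (ψ.f k) := fun k =>
      loc_comp_bij (hinv k) (loc_cone _ hφ hφ k)
    let m := sq (sq (f • 𝟙 S) (f • 𝟙 L) φ φ (by simp)) ψ e (𝟙 _) (by simp [ψ])
    exact ⟨_, s ≫ m, bijective_comp hs
      (bijective_map_f _ _ e (𝟙 _) _ he (fun _ => Function.bijective_id)),
      Stab.cons ψ hψ hS₁⟩

/-- One step: if the cone of `f` is exact in degree `k`, so is the cone of the localisation at `f`. -/
theorem ex_cone_loc {f : A} {M N : CochainComplex (ModuleCat.{u} A) ℤ} (φ : M ⟶ N)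
    (hφ : ∀ k, Loc f (φ.f k)) (k : ℤ) (h : Ex (mappingCone (f • 𝟙 M)) k) :
    Ex (mappingCone φ) k := by
  have hk : k - 1 + 1 = k := by omega
  have cm : ∀ (i j : ℤ) (x : M.X i), N.d i j (φ.f i x) = φ.f j (M.d i j x) := fun i j x =>
    ConcreteCategory.congr_hom (φ.comm i j) x
  -- injectivity of `f` on the cohomology in degree `k + 1`
  have inj1 : ∀ a : M.X (k + 1), M.d (k + 1) (k + 1 + 1) a = 0 →
      (∃ b : M.X k, M.d k (k + 1) b = f • a) → ∃ a' : M.X k, M.d k (k + 1) a' = a := by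
    rintro a ha ⟨b, hb⟩
    obtain ⟨w, hw⟩ := h (cmk (f • 𝟙 M) k (k + 1) rfl a (-b)) (by
      refine cone_ext _ (rfl : k + 1 + 1 = k + 1 + 1) ?_ ?_
      · rw [cfst_d _ rfl rfl, cfst_cmk, ha, neg_zero, map_zero]
      · rw [csnd_d _ rfl, cfst_cmk, csnd_cmk, smulId_f_apply, map_neg, hb, add_neg_cancel, map_zero])
    refine ⟨-(cfst (f • 𝟙 M) (k - 1) k hk w), ?_⟩
    have := congrArg (cfst (f • 𝟙 M) k (k + 1) rfl) hw
    rw [cfst_d _ hk rfl, cfst_cmk] at this
    rw [map_neg, this]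
  have injn : ∀ (n : ℕ) (a : M.X (k + 1)), M.d (k + 1) (k + 1 + 1) a = 0 →
      (∃ b : M.X k, M.d k (k + 1) b = f ^ n • a) → ∃ a' : M.X k, M.d k (k + 1) a' = a := by
    intro n
    induction n with
    | zero => intro a _ hb; simpa using hb
    | succ n ih =>
      intro a ha hb
      refine ih a ha (inj1 (f ^ n • a) (by rw [map_smul, ha, smul_zero]) ?_)
      simpa [smul_smul, pow_succ'] using hb
  -- surjectivity of `f` on the cohomology in degree `k`
  have surj1 : ∀ y : M.X k, M.d k (k + 1) y = 0 → ∃ (z : M.X k) (w : M.X (k - 1)),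
      M.d k (k + 1) z = 0 ∧ y = f • z + M.d (k - 1) k w := by
    intro y hy
    obtain ⟨w, hw⟩ := h (cmk (f • 𝟙 M) k (k + 1) rfl 0 y) (by
      refine cone_ext _ (rfl : k + 1 + 1 = k + 1 + 1) ?_ ?_
      · rw [cfst_d _ rfl rfl, cfst_cmk, map_zero, neg_zero, map_zero]
      · rw [csnd_d _ rfl, cfst_cmk, csnd_cmk, map_zero, hy, add_zero, map_zero])
    have h1 := congrArg (cfst (f • 𝟙 M) k (k + 1) rfl) hw
    have h2 := congrArg (csnd (f • 𝟙 M) k) hw
    rw [cfst_d _ hk rfl, cfst_cmk] at h1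
    rw [csnd_d _ hk, csnd_cmk, smulId_f_apply] at h2
    exact ⟨cfst (f • 𝟙 M) (k - 1) k hk w, csnd (f • 𝟙 M) (k - 1) w, neg_eq_zero.1 h1, h2.symm⟩
  have surjn : ∀ (n : ℕ) (y : M.X k), M.d k (k + 1) y = 0 → ∃ (z : M.X k) (w : M.X (k - 1)),
      M.d k (k + 1) z = 0 ∧ y = f ^ n • z + M.d (k - 1) k w := by
    intro n
    induction n with
    | zero => intro y hy; exact ⟨y, 0, hy, by simp⟩
    | succ n ih =>
      intro y hy
      obtain ⟨z, w, hz, rfl⟩ := ih y hy
      obtain ⟨z', w', hz', rfl⟩ := surj1 z hz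
      refine ⟨z', w + f ^ n • w', hz', ?_⟩
      rw [map_add, map_smul, smul_add, smul_smul, pow_succ]
      abel
  -- the cycle
  intro x hx
  have hx1 := congrArg (cfst φ (k + 1) (k + 1 + 1) rfl) hx
  have hx2 := congrArg (csnd φ (k + 1)) hx
  rw [cfst_d _ rfl rfl, map_zero, neg_eq_zero] at hx1
  rw [csnd_d _ rfl, map_zero] at hx2
  set a := cfst φ k (k + 1) rfl x with ha
  set b := csnd φ k x with hb
  obtain ⟨n, b₁, hb₁⟩ := (hφ k).extend b
  obtain ⟨m, hm⟩ := (hφ (k + 1)).kill (f ^ n • a + M.d k (k + 1) b₁) (by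
    rw [map_add, map_smul, ← cm, ← hb₁, map_smul, ← smul_add, hx2, smul_zero])
  obtain ⟨a', ha'⟩ := injn (m + n) a hx1 ⟨-(f ^ m • b₁), by
    refine (map_neg _ _).trans (neg_eq_of_add_eq_zero_left ?_)
    refine (congrArg₂ (· + ·) ((pow_add f m n).symm ▸ mul_smul (f ^ m) (f ^ n) a) (map_smul _ _ _)).trans ?_
    exact (smul_add _ _ _).symm.trans hm⟩
  obtain ⟨c, hc⟩ : ∃ c : N.X k, c = b + φ.f k a' := ⟨_, rfl⟩
  have hdc : N.d k (k + 1) c = 0 := by
    rw [hc, map_add, cm, ha']; exact (add_comm _ _).trans hx2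
  obtain ⟨j, c₁, hc₁⟩ := (hφ k).extend c
  obtain ⟨i, hi⟩ := (hφ (k + 1)).kill (M.d k (k + 1) c₁) (by
    rw [← cm, ← hc₁, map_smul, hdc, smul_zero])
  obtain ⟨z, w, hz, hzw⟩ := surjn (i + j) (f ^ i • c₁) (by rw [map_smul, hi])
  have hdiv : ∀ (r : ℕ) (y : N.X (k - 1)), ∃ y' : N.X (k - 1), f ^ r • y' = y := by
    intro r
    induction r with
    | zero => intro y; exact ⟨y, by simp⟩
    | succ r ih =>
      intro y
      obtain ⟨y₁, rfl⟩ := ih y
      obtain ⟨y₂, rfl⟩ := (hφ (k - 1)).bij.2 y₁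
      exact ⟨y₂, by rw [pow_succ, mul_smul]⟩
  have hcan : ∀ (r : ℕ) (u v : N.X k), f ^ r • u = f ^ r • v → u = v := by
    intro r
    induction r with
    | zero => intro u v huv; simpa using huv
    | succ r ih =>
      intro u v huv
      rw [pow_succ', mul_smul, mul_smul] at huv
      exact ih u v ((hφ k).bij.1 huv)
  obtain ⟨t, ht⟩ := hdiv (i + j) (φ.f (k - 1) w)
  have hce : c = φ.f k z + N.d (k - 1) k t := by
    refine hcan (i + j) _ _ ?_
    rw [smul_add, ← map_smul (N.d (k - 1) k).hom, ht, pow_add, mul_smul, hc₁, ← map_smul, hzw]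
    rw [map_add, map_smul, pow_add, ← cm]
  refine ⟨cmk φ (k - 1) k hk (z - a') t, cone_ext φ rfl ?_ ?_⟩
  · rw [cfst_d _ hk rfl, cfst_cmk, map_sub, hz, ha', zero_sub, neg_neg]
  · rw [csnd_d _ hk, cfst_cmk, csnd_cmk, map_sub, sub_add_eq_add_sub, ← hce, hc, add_sub_cancel_right]

theorem ex_of_stab : ∀ (l : List A) (K S : CochainComplex (ModuleCat.{u} A) ℤ), Stab l K S →
    ∀ k, Ex (kz l K) k → Ex S k
  | [], K, S, h, k, hk => by cases h; exact hk
  | f :: l, K, S, h, k, hk => by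
    cases h with
    | cons φ hφ h' =>
      obtain ⟨e, he⟩ := exists_kz_cone f l K
      obtain ⟨S', e', he', hS'⟩ := h'.exists_cone f
      exact ex_cone_loc φ hφ k ((ex_iff_of_bijective e' he' k).2
        (ex_of_stab l _ S' hS' k ((ex_iff_of_bijective e he k).1 hk)))

theorem loc_uF (f : A) (K : DRing.Cx A) (k : ℤ) :
    Loc f ((DerCA.locCxUnit (Submonoid.powers f) K).f k) where
  bij := by
    have h1 := smul_pow_injective (f := f) (K := K) (k := k) 1
    have h2 := smul_pow_surjective (f := f) (K := K) (k := k) 1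
    simp only [pow_one] at h1 h2
    exact ⟨h1, h2⟩
  extend := exists_pow_smul_eq_uF
  kill x hx := uF_eq_zero_iff.1 hx

theorem stab_St (M : ModuleCat.{u} A) : ∀ l : List A,
    Stab l ((HomologicalComplex.single (ModuleCat.{u} A) (ComplexShape.up ℤ) 0).obj M) (St M l)
  | [] => Stab.nil _
  | f :: l => Stab.cons _ (loc_uF f (St M l)) (stab_St M l)

theorem kz_single_eq : ∀ l : List A,
    kz l ((HomologicalComplex.single (ModuleCat.{u} A) (ComplexShape.up ℤ) 0).obj (ModuleCat.of A A)) =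
      Koszul.koszul A l
  | [] => rfl
  | f :: l => by
    show mappingCone (f • 𝟙 (kz l _)) = mappingCone (f • 𝟙 (Koszul.koszul A l))
    rw [kz_single_eq l]

/-- The stable Koszul complex of a Koszul-regular sequence is acyclic off degree zero. -/
theorem isZero_homology_St (l : List A) (k : ℤ) (h : Limits.IsZero ((Koszul.koszul A l).homology k)) :
    Limits.IsZero ((St (ModuleCat.of A A) l).homology k) := by
  rw [← ex_iff]
  refine ex_of_stab l _ _ (stab_St _ l) k ((ex_iff _ k).2 ?_)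
  rw [kz_single_eq]
  exact h

end Groth.Agent.KosStableLib
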